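import Cfsg.Agent.KFacts.PSpFourThree.Cent
import Cfsg.Agent.LargeExtra.W2.Iface
import Cfsg.Agent.SmallSimple.S1000.PSLFacts
set_option linter.all false

/-!
# `PSp₄(3)`: the centraliser of a 2-central involution is of type `Case9a` (helper314)
-/

set_option autoImplicit false
set_option linter.style.haveILetI false
set_option maxRecDepth 100000

namespace Cfsg.Agent.H314.PSp43Case

open Subgroup Cfsg
open Cfsg.Agent.Lib.FieldThree (F3)
open Cfsg.Agent.SmallSimple.S1000.Order25920PSp (Mat Sp π π_mul π_one π_eq m1 m2 m3 m4)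
open Cfsg.Agent.OddHalf.Small.PSp43 (πh πh_apply comm_or eq_or_of_π_eq)
open Cfsg.Agent.KFacts.PSpFourThree Cfsg.Agent.KFacts.PSpFourThree.PE
open Cfsg.Agent.Co2Type.Quad Cfsg.Agent.LargeExtra.W2

def d2 : PE := ⟨M2.one, tt, false⟩

theorem ok_d2 : d2.Ok := ⟨by decide, by decide⟩

/-- squares of elements of `R` -/
theorem sq_check : allG (fun x => allG (fun y => or (not (and (inQ x) (inQ y)))
    (let n : PE := ⟨x, y, false⟩
     or ((n.mul n).beqs PE.one) ((n.mul n).beqs zz))) slL) slL = true := by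
  decide +kernel

/-- commutators of elements of the quaternion group -/
theorem q_comm_check : allG (fun x => allG (fun y => or (not (and (inQ x) (inQ y)))
    (or ((x.mul y).beq (y.mul x)) ((x.mul y).beq ((y.mul x).neg)))) slL) slL = true := by
  decide +kernel

/-- every element of `SL₂(3)` is a product of an element of `Q₈` and a power of `tt` -/
theorem gen_check2 : allG (fun x =>
    (and (anyG (fun a => anyG (fun w => (PE.mk x M2.one false).beqs (w.mul ⟨a, M2.one, false⟩))
        [PE.one, r1, r2, r1.mul r2, zz, r1.mul zz, r2.mul zz, (r1.mul r2).mul zz]) [M2.one, tt, tt.mul tt])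
      (anyG (fun a => anyG (fun w => (PE.mk M2.one x false).beqs (w.mul ⟨M2.one, a, false⟩))
        [PE.one, r3, r4, r3.mul r4, zz, r3.mul zz, r4.mul zz, (r3.mul r4).mul zz]) [M2.one, tt, tt.mul tt])))
    slL = true := by decide +kernel

theorem mem_z {g : PSp 2 F3} : g ∈ centralizer ({z} : Set (PSp 2 F3)) ↔ g * z = z * g :=
  mem_centralizer_singleton_iff

theorem z_of_x {a : PE} (ha : a.Ok) (h : a.beqs zz = true) : a.el = z := eq_el ha ok_zz h

theorem el_mul_eq {p q r : PE} (hp : p.Ok) (hq : q.Ok) (hr : r.Ok) (h : (p.mul q).beqs r = true) :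
    p.el * q.el = r.el := by
  rw [← el_mul hp hq]; exact eq_el (hp.mul hq) hr h

theorem large : Large R z where
  z_mem := (mem_R ok_zz).2 (by decide)
  z_ne := z_ne
  z_sq := z_mul_z
  comm_z := fun _ hx => R_comm hx
  conj_mem := fun _ hg _ hx => R_norm hg hx
  sq := by
    rintro _ ⟨p, hp, hR, rfl⟩
    rw [inR_iff] at hR
    obtain ⟨x, y, s⟩ := p
    obtain ⟨hx, hy, hs⟩ := hR
    have hs' : s = false := hs
    subst hs'
    have hx' : inQ x = true := hx
    have hy' : inQ y = true := hy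
    have c := (allG_iff _ _).1 ((allG_iff _ _).1 sq_check x (mem_slL hp.1)) y (mem_slL hp.2)
    rw [hx', hy'] at c
    have c' : (((PE.mk x y false).mul (PE.mk x y false)).beqs PE.one ||
      ((PE.mk x y false).mul (PE.mk x y false)).beqs zz) = true := c
    rw [Bool.or_eq_true] at c'
    rw [← el_mul hp hp]
    rcases c' with h | h
    · left; rw [← el_one]; exact eq_el (hp.mul hp) ok_one h
    · right; exact eq_el (hp.mul hp) ok_zz h
  comm := by
    rintro _ ⟨p, hp, hR, rfl⟩ _ ⟨q, hq, hR', rfl⟩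
    rw [inR_iff] at hR hR'
    obtain ⟨x, y, s⟩ := p
    obtain ⟨x', y', s'⟩ := q
    obtain ⟨hx, hy, hs⟩ := hR
    obtain ⟨hx', hy', hs'⟩ := hR'
    have hs2 : s = false := hs
    have hs3 : s' = false := hs'
    subst hs2 hs3
    have hx2 : inQ x = true := hx
    have hy2 : inQ y = true := hy
    have hx3 : inQ x' = true := hx'
    have hy3 : inQ y' = true := hy'
    have c1 := (allG_iff _ _).1 ((allG_iff _ _).1 q_comm_check x (mem_slL hp.1)) x' (mem_slL hq.1)
    have c2 := (allG_iff _ _).1 ((allG_iff _ _).1 q_comm_check y (mem_slL hp.2)) y' (mem_slL hq.2)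
    rw [hx2, hx3] at c1
    rw [hy2, hy3] at c2
    have c1' : ((x.mul x').beq (x'.mul x) || (x.mul x').beq (x'.mul x).neg) = true := c1
    have c2' : ((y.mul y').beq (y'.mul y) || (y.mul y').beq (y'.mul y).neg) = true := c2
    rw [Bool.or_eq_true, M2.beq_iff, M2.beq_iff] at c1' c2'
    have e1 : (PE.mk x y false).mul (PE.mk x' y' false) = PE.mk (x.mul x') (y.mul y') false := rfl
    have e2 : (PE.mk x' y' false).mul (PE.mk x y false) = PE.mk (x'.mul x) (y'.mul y) false := rfl
    have hok : (PE.mk (x'.mul x) (y'.mul y) false).Ok := hq.mul hp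
    rw [← el_mul hp hq, ← el_mul hq hp, e1, e2]
    have ez : ∀ (a b : M2), a.det = 1 → b.det = 1 → (PE.mk a b false).el * z = (PE.mk a b.neg false).el := by
      intro a b ha hb
      have h1 : (PE.mk a b false).Ok := ⟨ha, hb⟩
      change (PE.mk a b false).el * zz.el = _
      rw [← el_mul h1 ok_zz]
      have e3 : (PE.mk a b false).mul zz = PE.mk (a.mul M2.one) (b.mul M2.one.neg) false := rfl
      rw [e3, M2_mul_one, M2_mul_neg_one]
    have ez2 : ∀ (a b : M2), a.det = 1 → b.det = 1 → (PE.mk a b false).el * z = (PE.mk a.neg b false).el := by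
      intro a b ha hb
      rw [ez a b ha hb]
      have h1 : (PE.mk a b.neg false).Ok := ⟨ha, (det_neg b).trans hb⟩
      rw [← el_neg h1]
      have e3 : (PE.mk a b.neg false).neg = PE.mk a.neg b.neg.neg false := rfl
      rw [e3, M2_neg_neg]
    rcases c1' with h1 | h1 <;> rcases c2' with h2 | h2
    · left; rw [h1, h2]
    · right; rw [h1, h2, ez _ _ hok.1 hok.2]
    · right; rw [h1, h2, ez2 _ _ hok.1 hok.2]
    · left
      rw [h1, h2, ← el_neg hok]
      rfl
  cent := fun x hx h => cent_R x (R_comm hx) h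
  self := by
    intro g hg h
    rcases cent_R g hg h with rfl | rfl
    · exact one_mem _
    · exact (mem_R ok_zz).2 (by decide)

theorem gen : R = closure {r1.el, r2.el, r3.el, r4.el} := by
  apply le_antisymm
  · have h1 : r1.el ∈ closure {r1.el, r2.el, r3.el, r4.el} := subset_closure (by simp)
    have h2 : r2.el ∈ closure {r1.el, r2.el, r3.el, r4.el} := subset_closure (by simp)
    have h3 : r3.el ∈ closure {r1.el, r2.el, r3.el, r4.el} := subset_closure (by simp)
    have h4 : r4.el ∈ closure {r1.el, r2.el, r3.el, r4.el} := subset_closure (by simp)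
    refine R_le ?_ h1 h2 h3 h4
    have : r1.el * r1.el = z := el_mul_eq ok_r1 ok_r1 ok_zz (by decide)
    rw [← this]
    exact mul_mem h1 h1
  · rw [closure_le]
    rintro g hg
    simp only [Set.mem_insert_iff, Set.mem_singleton_iff] at hg
    rcases hg with rfl | rfl | rfl | rfl
    · exact (mem_R ok_r1).2 (by decide)
    · exact (mem_R ok_r2).2 (by decide)
    · exact (mem_R ok_r3).2 (by decide)
    · exact (mem_R ok_r4).2 (by decide)

theorem conj_eq {d p r : PE} (hd : d.Ok) (hp : p.Ok) (hr : r.Ok) (h : (cj d p).beqs r = true) :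
    d.el * p.el * (d.el)⁻¹ = r.el := by
  rw [← el_cj hd hp]
  exact eq_el (ok_cj hd hp) hr h

theorem card_q : Nat.card {x : M2 // x.det = 1 ∧ inQ x = true} = 8 := by
  have h1 : ∀ x : M2, (x.det = 1 ∧ inQ x = true) ↔ x ∈ (slL.filter (fun x => inQ x)).toFinset := fun x => by
    rw [List.mem_toFinset, List.mem_filter]
    exact ⟨fun h => ⟨mem_slL h.1, h.2⟩, fun h => ⟨slL_det x h.1, h.2⟩⟩
  rw [Nat.card_congr (Equiv.subtypeEquivRight h1), Nat.card_eq_fintype_card, Fintype.card_coe]
  decide +kernel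

theorem card_R : Nat.card R = 32 := by
  have hOk : ∀ q : {x : M2 // x.det = 1 ∧ inQ x = true} × {x : M2 // x.det = 1 ∧ inQ x = true},
      (PE.mk q.1.1 q.2.1 false).Ok := fun q => ⟨q.1.2.1, q.2.2.1⟩
  have hmem : ∀ q, (PE.mk q.1.1 q.2.1 false).sp (hOk q) ∈ R.comap πh := by
    intro q
    show π ((PE.mk q.1.1 q.2.1 false).sp (hOk q)) ∈ R
    rw [← el_eq (hOk q), mem_R (hOk q), inR_iff]
    exact ⟨q.1.2.2, q.2.2.2, rfl⟩
  let f : {x : M2 // x.det = 1 ∧ inQ x = true} × {x : M2 // x.det = 1 ∧ inQ x = true} → R.comap πh := fun q =>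
    ⟨(PE.mk q.1.1 q.2.1 false).sp (hOk q), hmem q⟩
  have hf : Function.Bijective f := by
    constructor
    · rintro ⟨⟨x, hx⟩, ⟨y, hy⟩⟩ ⟨⟨x', hx'⟩, ⟨y', hy'⟩⟩ h
      have h1 : (PE.mk x y false).mat = (PE.mk x' y' false).mat := congrArg (fun w : R.comap πh => ((w : Sp) : Mat)) h
      have h2 := mat_inj h1 ⟨hx.1, hy.1⟩ ⟨hx'.1, hy'.1⟩
      obtain ⟨rfl, rfl, -⟩ := PE.mk.inj h2
      rfl
    · rintro ⟨g, hg⟩
      have hg' : π g ∈ R := hg
      obtain ⟨p, hp, hR, h1⟩ := hg'
      rw [inR_iff] at hR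
      obtain ⟨x, y, s⟩ := p
      obtain ⟨hx, hy, hs⟩ := hR
      have hs' : s = false := hs
      subst hs'
      rw [el_eq hp] at h1
      have hx2 : inQ x = true := hx
      have hy2 : inQ y = true := hy
      rcases eq_or_of_π_eq h1 with h2 | h2
      · refine ⟨(⟨x, hp.1, hx2⟩, ⟨y, hp.2, hy2⟩), Subtype.ext (Subtype.ext ?_)⟩
        exact h2.symm
      · refine ⟨(⟨x.neg, hp.neg.1, inQ_neg hp.1 hx2⟩, ⟨y.neg, hp.neg.2, inQ_neg hp.2 hy2⟩),
          Subtype.ext (Subtype.ext ?_)⟩
        show (PE.mk x y false).neg.mat = (g : Mat)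
        rw [mat_neg, h2]
        rfl
  have h0 : Nat.card (R.comap πh) = 64 := by
    rw [← Nat.card_congr (Equiv.ofBijective f hf), Nat.card_prod, card_q]
  have h1 : (R.comap πh).index = R.index :=
    index_comap_of_surjective _ (QuotientGroup.mk'_surjective _)
  have h2 := (R.comap πh).card_mul_index
  rw [h0, card_Sp] at h2
  have h3 : (R.comap πh).index = 810 := by omega
  have h4 := R.card_mul_index
  rw [← h1, h3, Cfsg.Agent.SmallSimple.PSLFacts.card_psp_two_three Cfsg.Agent.Lib.FieldThree.F3.card] at h4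
  omega

theorem card_cent : Nat.card (centralizer ({z} : Set (PSp 2 F3))) = 576 := by
  have h1 : HH.index = (centralizer ({z} : Set (PSp 2 F3))).index :=
    index_comap_of_surjective _ (QuotientGroup.mk'_surjective _)
  have h2 := HH.card_mul_index
  rw [card_HH, card_Sp] at h2
  have h3 : HH.index = 45 := by omega
  have h4 := (centralizer ({z} : Set (PSp 2 F3))).card_mul_index
  rw [← h1, h3, Cfsg.Agent.SmallSimple.PSLFacts.card_psp_two_three Cfsg.Agent.Lib.FieldThree.F3.card] at h4
  omega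

theorem eq_closure : centralizer ({z} : Set (PSp 2 F3)) =
    closure {r1.el, r2.el, r3.el, r4.el, d1.el, d2.el, vv.el} := by
  apply le_antisymm
  · set N := closure {r1.el, r2.el, r3.el, r4.el, d1.el, d2.el, vv.el} with hN
    have h1 : r1.el ∈ N := subset_closure (by simp)
    have h2 : r2.el ∈ N := subset_closure (by simp)
    have h3 : r3.el ∈ N := subset_closure (by simp)
    have h4 : r4.el ∈ N := subset_closure (by simp)
    have h5 : d1.el ∈ N := subset_closure (by simp)
    have h6 : d2.el ∈ N := subset_closure (by simp)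
    have h7 : vv.el ∈ N := subset_closure (by simp)
    have hz : zz.el ∈ N := by
      have : r1.el * r1.el = zz.el := el_mul_eq ok_r1 ok_r1 ok_zz (by decide)
      rw [← this]
      exact mul_mem h1 h1
    have hd1 : ∀ a ∈ [M2.one, tt, tt.mul tt], (PE.mk a M2.one false).Ok ∧ (PE.mk a M2.one false).el ∈ N := by
      intro a ha
      simp only [List.mem_cons, List.not_mem_nil, or_false] at ha
      rcases ha with rfl | rfl | rfl
      · exact ⟨⟨det_one, det_one⟩, by
          have : (PE.mk M2.one M2.one false).el = 1 := el_one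
          rw [this]; exact one_mem _⟩
      · exact ⟨ok_d1, h5⟩
      · refine ⟨ok_d1.mul ok_d1, ?_⟩
        have : (PE.mk (tt.mul tt) M2.one false).el = d1.el * d1.el := by
          rw [← el_mul ok_d1 ok_d1]; rfl
        rw [this]; exact mul_mem h5 h5
    have hd2 : ∀ a ∈ [M2.one, tt, tt.mul tt], (PE.mk M2.one a false).Ok ∧ (PE.mk M2.one a false).el ∈ N := by
      intro a ha
      simp only [List.mem_cons, List.not_mem_nil, or_false] at ha
      rcases ha with rfl | rfl | rfl
      · exact ⟨⟨det_one, det_one⟩, by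
          have : (PE.mk M2.one M2.one false).el = 1 := el_one
          rw [this]; exact one_mem _⟩
      · exact ⟨ok_d2, h6⟩
      · refine ⟨ok_d2.mul ok_d2, ?_⟩
        have : (PE.mk M2.one (tt.mul tt) false).el = d2.el * d2.el := by
          rw [← el_mul ok_d2 ok_d2]; rfl
        rw [this]; exact mul_mem h6 h6
    have hx : ∀ x : M2, x.det = 1 → (PE.mk x M2.one false).el ∈ N := by
      intro x hxd
      have c := (allG_iff _ _).1 gen_check2 x (mem_slL hxd)
      rw [Bool.and_eq_true, anyG_iff, anyG_iff] at c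
      obtain ⟨⟨a, ha, c⟩, -⟩ := c
      rw [anyG_iff] at c
      obtain ⟨w, hw, c⟩ := c
      obtain ⟨ha1, ha2⟩ := hd1 a ha
      have key : w.Ok ∧ w.el ∈ N := by
        simp only [List.mem_cons, List.not_mem_nil, or_false] at hw
        rcases hw with rfl | rfl | rfl | rfl | rfl | rfl | rfl | rfl
        · exact ⟨ok_one, by rw [el_one]; exact one_mem _⟩
        · exact ⟨ok_r1, h1⟩
        · exact ⟨ok_r2, h2⟩
        · exact ⟨ok_r1.mul ok_r2, by rw [el_mul ok_r1 ok_r2]; exact mul_mem h1 h2⟩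
        · exact ⟨ok_zz, hz⟩
        · exact ⟨ok_r1.mul ok_zz, by rw [el_mul ok_r1 ok_zz]; exact mul_mem h1 hz⟩
        · exact ⟨ok_r2.mul ok_zz, by rw [el_mul ok_r2 ok_zz]; exact mul_mem h2 hz⟩
        · exact ⟨(ok_r1.mul ok_r2).mul ok_zz, by
            rw [el_mul (ok_r1.mul ok_r2) ok_zz, el_mul ok_r1 ok_r2]; exact mul_mem (mul_mem h1 h2) hz⟩
      rw [eq_el ⟨hxd, det_one⟩ (key.1.mul ha1) c, el_mul key.1 ha1]
      exact mul_mem key.2 ha2
    have hy : ∀ x : M2, x.det = 1 → (PE.mk M2.one x false).el ∈ N := by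
      intro x hxd
      have c := (allG_iff _ _).1 gen_check2 x (mem_slL hxd)
      rw [Bool.and_eq_true, anyG_iff, anyG_iff] at c
      obtain ⟨-, ⟨a, ha, c⟩⟩ := c
      rw [anyG_iff] at c
      obtain ⟨w, hw, c⟩ := c
      obtain ⟨ha1, ha2⟩ := hd2 a ha
      have key : w.Ok ∧ w.el ∈ N := by
        simp only [List.mem_cons, List.not_mem_nil, or_false] at hw
        rcases hw with rfl | rfl | rfl | rfl | rfl | rfl | rfl | rfl
        · exact ⟨ok_one, by rw [el_one]; exact one_mem _⟩
        · exact ⟨ok_r3, h3⟩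
        · exact ⟨ok_r4, h4⟩
        · exact ⟨ok_r3.mul ok_r4, by rw [el_mul ok_r3 ok_r4]; exact mul_mem h3 h4⟩
        · exact ⟨ok_zz, hz⟩
        · exact ⟨ok_r3.mul ok_zz, by rw [el_mul ok_r3 ok_zz]; exact mul_mem h3 hz⟩
        · exact ⟨ok_r4.mul ok_zz, by rw [el_mul ok_r4 ok_zz]; exact mul_mem h4 hz⟩
        · exact ⟨(ok_r3.mul ok_r4).mul ok_zz, by
            rw [el_mul (ok_r3.mul ok_r4) ok_zz, el_mul ok_r3 ok_r4]; exact mul_mem (mul_mem h3 h4) hz⟩
      rw [eq_el ⟨det_one, hxd⟩ (key.1.mul ha1) c, el_mul key.1 ha1]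
      exact mul_mem key.2 ha2
    have hxy : ∀ x y : M2, x.det = 1 → y.det = 1 → (PE.mk x y false).el ∈ N := by
      intro x y hxd hyd
      have e : (PE.mk x y false) = (PE.mk x M2.one false).mul (PE.mk M2.one y false) := by
        show _ = (⟨x.mul M2.one, M2.one.mul y, false⟩ : PE)
        rw [M2_mul_one, M2_one_mul]
      have hox : (PE.mk x M2.one false).Ok := ⟨hxd, det_one⟩
      have hoy : (PE.mk M2.one y false).Ok := ⟨det_one, hyd⟩
      rw [e, el_mul hox hoy]
      exact mul_mem (hx x hxd) (hy y hyd)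
    intro g hg
    obtain ⟨⟨x, y, s⟩, hp, rfl⟩ := exists_el (mem_z.1 hg)
    cases s
    · exact hxy x y hp.1 hp.2
    · have e : vv.mul (PE.mk x y true) = PE.mk y x false := by
        show (PE.mk (M2.one.mul y) (M2.one.mul x) false) = _
        rw [M2_one_mul, M2_one_mul]
      have h8 : vv.el * (PE.mk x y true).el ∈ N := by
        rw [← el_mul ok_vv hp, e]
        exact hxy y x hp.2 hp.1
      have h9 := mul_mem (inv_mem h7) h8
      rwa [inv_mul_cancel_left] at h9
  · rw [closure_le]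
    rintro g hg
    simp only [Set.mem_insert_iff, Set.mem_singleton_iff] at hg
    rcases hg with rfl | rfl | rfl | rfl | rfl | rfl | rfl
    · exact mem_z.2 (z_comm ok_r1)
    · exact mem_z.2 (z_comm ok_r2)
    · exact mem_z.2 (z_comm ok_r3)
    · exact mem_z.2 (z_comm ok_r4)
    · exact mem_z.2 (z_comm ok_d1)
    · exact mem_z.2 (z_comm ok_d2)
    · exact mem_z.2 (z_comm ok_vv)

theorem pow_three_eq {p : PE} (hp : p.Ok) (h : ((p.mul p).mul p).beqs PE.one = true) : p.el ^ 3 = 1 := by
  have h1 := eq_el ((hp.mul hp).mul hp) ok_one h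
  rw [el_mul (hp.mul hp) hp, el_mul hp hp, el_one] at h1
  rw [pow_succ, pow_two]; exact h1

/-- `C(z)` in `PSp₄(3)` -/
theorem case9a : Case9a R z r1.el r2.el r3.el r4.el d1.el d2.el vv.el := by
  have hij : (r1.mul r2).Ok := ok_r1.mul ok_r2
  have hkl : (r3.mul r4).Ok := ok_r3.mul ok_r4
  have act : ∀ {c i' j' k' l' : PE} (_ : c.Ok) (_ : i'.Ok) (_ : j'.Ok) (_ : k'.Ok) (_ : l'.Ok),
      (cj c r1).beqs i' = true → (cj c r2).beqs j' = true → (cj c r3).beqs k' = true →
      (cj c r4).beqs l' = true → Act z r1.el r2.el r3.el r4.el c.el i'.el j'.el k'.el l'.el := by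
    intro c i' j' k' l' hc hi hj hk hl h1 h2 h3 h4
    refine ⟨?_, conj_eq hc ok_r1 hi h1, conj_eq hc ok_r2 hj h2, conj_eq hc ok_r3 hk h3, conj_eq hc ok_r4 hl h4⟩
    rw [z_comm hc, mul_inv_cancel_right]
  have hzmul : ∀ {p q r : PE} (_ : p.Ok) (_ : q.Ok) (_ : r.Ok) (_ : (p.mul q).beqs ((r).mul zz) = true),
      p.el * q.el = r.el * z := by
    intro p q r hp hq hr h
    rw [el_mul_eq hp hq (hr.mul ok_zz) h, el_mul hr ok_zz]
    rfl
  have hmm : ∀ {p q r t : PE} (_ : p.Ok) (_ : q.Ok) (_ : r.Ok) (_ : t.Ok) (_ : (p.mul q).beqs (r.mul t) = true),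
      p.el * q.el = r.el * t.el := by
    intro p q r t hp hq hr ht h
    rw [el_mul_eq hp hq (hr.mul ht) h, el_mul hr ht]
  exact
    { large := large
      card := card_R
      gen := gen
      ii := el_mul_eq ok_r1 ok_r1 ok_zz (by decide)
      jj := el_mul_eq ok_r2 ok_r2 ok_zz (by decide)
      kk := el_mul_eq ok_r3 ok_r3 ok_zz (by decide)
      ll := el_mul_eq ok_r4 ok_r4 ok_zz (by decide)
      ji := by
        rw [← el_mul ok_r1 ok_r2]
        exact hzmul ok_r2 ok_r1 hij (by decide)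
      lk := by
        rw [← el_mul ok_r3 ok_r4]
        exact hzmul ok_r4 ok_r3 hkl (by decide)
      ki := hmm ok_r3 ok_r1 ok_r1 ok_r3 (by decide)
      li := hmm ok_r4 ok_r1 ok_r1 ok_r4 (by decide)
      kj := hmm ok_r3 ok_r2 ok_r2 ok_r3 (by decide)
      lj := hmm ok_r4 ok_r2 ok_r2 ok_r4 (by decide)
      x₁3 := pow_three_eq ok_d1 (by decide)
      x₂3 := pow_three_eq ok_d2 (by decide)
      x₁_act := by
        rw [← el_mul ok_r1 ok_r2]
        exact act ok_d1 ok_r2 hij ok_r3 ok_r4 (by decide) (by decide) (by decide) (by decide)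
      x₂_act := by
        rw [← el_mul ok_r3 ok_r4]
        exact act ok_d2 ok_r1 ok_r2 ok_r4 hkl (by decide) (by decide) (by decide) (by decide)
      s_act := act ok_vv ok_r3 ok_r4 ok_r1 ok_r2 (by decide) (by decide) (by decide) (by decide)
      xx := hmm ok_d1 ok_d2 ok_d2 ok_d1 (by decide)
      s1 := conj_eq ok_vv ok_d1 ok_d2 (by decide)
      s2 := conj_eq ok_vv ok_d2 ok_d1 (by decide)
      ss := by
        left
        rw [← el_one]
        exact el_mul_eq ok_vv ok_vv ok_one (by decide)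
      cent := eq_closure
      card_cent := card_cent }

end Cfsg.Agent.H314.PSp43Case
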